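import Mathlib.CategoryTheory.Limits.Shapes.Equalizers
import Mathlib.CategoryTheory.Limits.Shapes.BinaryProducts
import Mathlib.CategoryTheory.Limits.Shapes.Pullback.HasPullback
import Mathlib.CategoryTheory.FinCategory.Basic
import Mathlib.CategoryTheory.IsConnected
import Mathlib.Data.Fintype.Sigma
import Mathlib.Data.Fintype.Prod
import Mathlib.Data.Fintype.Powerset
import Mathlib.Order.Preorder.Finite

/-!
# Finite limits from a jointly monic family through which all cones factor
-/

set_option autoImplicit false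

universe v u

open CategoryTheory CategoryTheory.Limits

namespace Groth.Agent.CatLim16

variable {C : Type u} [Category.{v} C] {J : Type} [SmallCategory J] (F : J ⥤ C)

/-- An object with legs indexed by `S` that are jointly monic and through which every cone factors. -/
structure Partial (S : Finset J) where
  pt : C
  leg : ∀ j ∈ S, pt ⟶ F.obj j
  jointly_mono : ∀ {W : C} (g h : W ⟶ pt), (∀ j hj, g ≫ leg j hj = h ≫ leg j hj) → g = h
  factors : ∀ c : Cone F, ∃ g : c.pt ⟶ pt, ∀ j hj, g ≫ leg j hj = c.π.app j

variable {F}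

lemma Partial.singleton (j₀ : J) : Nonempty (Partial F {j₀}) := by
  refine ⟨⟨F.obj j₀, fun j hj => eqToHom (by rw [Finset.mem_singleton.1 hj]), fun g h e => ?_, fun c => ⟨c.π.app j₀, fun j hj => ?_⟩⟩⟩
  · simpa using e j₀ (Finset.mem_singleton_self _)
  · obtain rfl := Finset.mem_singleton.1 hj
    simp

lemma exists_equalizer_of [HasEqualizers C] {ι : Type} (S : Finset ι) (P : C) (X : ι → C) (a b : ∀ i, P ⟶ X i) :
    ∃ (E : C) (e : E ⟶ P), Mono e ∧ (∀ i ∈ S, e ≫ a i = e ≫ b i) ∧
      ∀ {W : C} (g : W ⟶ P), (∀ i ∈ S, g ≫ a i = g ≫ b i) → ∃ k : W ⟶ E, k ≫ e = g := by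
  classical
  induction S using Finset.induction_on with
  | empty => exact ⟨P, 𝟙 P, inferInstance, by simp, fun g _ => ⟨g, Category.comp_id g⟩⟩
  | insert c S _ ih =>
    obtain ⟨E, e, he, heq, hfac⟩ := ih
    refine ⟨equalizer (e ≫ a c) (e ≫ b c), equalizer.ι _ _ ≫ e, mono_comp _ _, fun i hi => ?_, fun g hg => ?_⟩
    · rcases Finset.mem_insert.1 hi with rfl | hi
      · rw [Category.assoc, Category.assoc]
        exact equalizer.condition _ _
      · simp only [Category.assoc, heq i hi]
    · obtain ⟨k, hk⟩ := hfac g fun i hi => hg i (Finset.mem_insert_of_mem hi)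
      refine ⟨equalizer.lift k ?_, by rw [equalizer.lift_ι_assoc, hk]⟩
      rw [← Category.assoc, ← Category.assoc, hk]
      exact hg c (Finset.mem_insert_self c S)

lemma hasLimit_of_partial [HasEqualizers C] [FinCategory J] (P : Partial F Finset.univ) : HasLimit F := by
  classical
  obtain ⟨E, e, he, heq, hfac⟩ := exists_equalizer_of (Finset.univ : Finset (Σ p : J × J, p.1 ⟶ p.2)) P.pt
    (fun q => F.obj q.1.2) (fun q => P.leg q.1.1 (Finset.mem_univ _) ≫ F.map q.2) (fun q => P.leg q.1.2 (Finset.mem_univ _))
  let c : Cone F := { pt := E, π := { app := fun j => e ≫ P.leg j (Finset.mem_univ _)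
                                      naturality := fun i j f => by
                                        dsimp
                                        rw [Category.id_comp, Category.assoc]
                                        exact (heq ⟨(i, j), f⟩ (Finset.mem_univ _)).symm } }
  choose g hg using P.factors
  have hk : ∀ s : Cone F, ∃ k : s.pt ⟶ E, k ≫ e = g s := fun s => hfac (g s) fun q _ => by
    rw [← Category.assoc, hg, hg, s.w]
  choose k hk using hk
  refine ⟨⟨⟨c, ?_⟩⟩⟩
  exact
    { lift := fun s => k s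
      fac := fun s j => by show k s ≫ e ≫ _ = _; rw [← Category.assoc, hk, hg]
      uniq := fun s m hm => by
        rw [← cancel_mono e, hk]
        refine P.jointly_mono _ _ fun j _ => ?_
        rw [hg, ← hm j, Category.assoc] }

lemma Partial.insert_prod [DecidableEq J] [HasBinaryProducts C] {S : Finset J} (P : Partial F S) {a : J} (ha : a ∉ S) :
    Nonempty (Partial F (insert a S)) := by
  refine ⟨⟨F.obj a ⨯ P.pt, fun j hj => if h : j = a then prod.fst ≫ eqToHom (by rw [h]) else
    prod.snd ≫ P.leg j ((Finset.mem_insert.1 hj).resolve_left h), fun g h e => ?_, fun c => ?_⟩⟩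
  · refine prod.hom_ext (by simpa using e a (Finset.mem_insert_self a S)) (P.jointly_mono _ _ fun j hj => ?_)
    simpa [dif_neg (show j ≠ a from fun h => ha (h ▸ hj))] using e j (Finset.mem_insert_of_mem hj)
  · obtain ⟨g, hg⟩ := P.factors c
    refine ⟨prod.lift (c.π.app a) g, fun j hj => ?_⟩
    split_ifs with h
    · subst h; simp [prod.lift_fst]
    · rw [prod.lift_snd_assoc, hg]

lemma Partial.insert_target [DecidableEq J] {S : Finset J} (P : Partial F S) {i a : J} (hi : i ∈ S) (ha : a ∉ S) (f : i ⟶ a) :
    Nonempty (Partial F (insert a S)) := by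
  refine ⟨⟨P.pt, fun j hj => if h : j = a then P.leg i hi ≫ F.map f ≫ eqToHom (by rw [h]) else
    P.leg j ((Finset.mem_insert.1 hj).resolve_left h), fun g h e => ?_, fun c => ?_⟩⟩
  · refine P.jointly_mono _ _ fun j hj => ?_
    simpa [dif_neg (show j ≠ a from fun h => ha (h ▸ hj))] using e j (Finset.mem_insert_of_mem hj)
  · obtain ⟨g, hg⟩ := P.factors c
    refine ⟨g, fun j hj => ?_⟩
    split_ifs with h
    · subst h; simp [reassoc_of% (hg i hi)]
    · exact hg j _

lemma Partial.insert_source [DecidableEq J] [HasPullbacks C] {S : Finset J} (P : Partial F S) {i a : J} (hi : i ∈ S) (ha : a ∉ S) (f : a ⟶ i) :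
    Nonempty (Partial F (insert a S)) := by
  refine ⟨⟨pullback (F.map f) (P.leg i hi), fun j hj => if h : j = a then pullback.fst _ _ ≫ eqToHom (by rw [h]) else
    pullback.snd _ _ ≫ P.leg j ((Finset.mem_insert.1 hj).resolve_left h), fun g h e => ?_, fun c => ?_⟩⟩
  · refine pullback.hom_ext (by simpa using e a (Finset.mem_insert_self a S)) (P.jointly_mono _ _ fun j hj => ?_)
    simpa [dif_neg (show j ≠ a from fun h => ha (h ▸ hj))] using e j (Finset.mem_insert_of_mem hj)
  · obtain ⟨g, hg⟩ := P.factors c
    refine ⟨pullback.lift (c.π.app a) g (by rw [c.w, hg]), fun j hj => ?_⟩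
    split_ifs with h
    · subst h; simp [pullback.lift_fst]
    · rw [pullback.lift_snd_assoc, hg]

theorem hasLimitsOfShape_of_prod (C : Type u) [Category.{v} C] [HasBinaryProducts C] [HasEqualizers C]
    (J : Type) [SmallCategory J] [FinCategory J] [Nonempty J] : HasLimitsOfShape J C := by
  classical
  refine ⟨fun F => ?_⟩
  obtain ⟨j₀⟩ := ‹Nonempty J›
  have key : ∀ T : Finset J, Nonempty (Partial F (insert j₀ T)) := by
    intro T
    induction T using Finset.induction_on with
    | empty => exact Partial.singleton j₀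
    | insert a T _ ih =>
      obtain ⟨P⟩ := ih
      rw [Finset.insert_comm]
      by_cases ha : a ∈ insert j₀ T
      · rw [Finset.insert_eq_self.2 ha]; exact ⟨P⟩
      · exact P.insert_prod ha
  obtain ⟨P⟩ := key Finset.univ
  rw [Finset.insert_eq_self.2 (Finset.mem_univ j₀)] at P
  exact hasLimit_of_partial P

theorem hasLimitsOfShape_of_pullback (C : Type u) [Category.{v} C] [HasPullbacks C] [HasEqualizers C]
    (J : Type) [SmallCategory J] [FinCategory J] [IsConnected J] : HasLimitsOfShape J C := by
  classical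
  refine ⟨fun F => ?_⟩
  obtain ⟨j₀⟩ := (inferInstance : Nonempty J)
  obtain ⟨S, ⟨hj₀, ⟨P⟩⟩, hmax⟩ := (Set.toFinite {S : Finset J | j₀ ∈ S ∧ Nonempty (Partial F S)}).exists_maximal
    ⟨{j₀}, Finset.mem_singleton_self _, Partial.singleton j₀⟩
  suffices S = Finset.univ by subst this; exact hasLimit_of_partial P
  refine Finset.eq_univ_iff_forall.2 fun j => ?_
  refine induct_on_objects {x | x ∈ S} hj₀ (fun {a b} f => ?_) j
  constructor
  · intro (ha : a ∈ S)
    by_contra hb
    exact hb (hmax ⟨Finset.mem_insert_of_mem hj₀, P.insert_target ha hb f⟩ (Finset.subset_insert _ _) (Finset.mem_insert_self b S))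
  · intro (hb : b ∈ S)
    by_contra ha
    exact ha (hmax ⟨Finset.mem_insert_of_mem hj₀, P.insert_source hb ha f⟩ (Finset.subset_insert _ _) (Finset.mem_insert_self a S))

end Groth.Agent.CatLim16
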